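import Cfsg.Agent.H740.Cyc.Semi

/-!
# S3507 (TWOCYC): no element of order 7 in `GL_4(3)` (helper740)

`eq_one_of_seven`: a `4 × 4`-matrix `M` in characteristic 3 with `M ^ 7 = 1` whose characteristic polynomial has
coefficients in the prime field is 1.
-/

set_option autoImplicit false

namespace Cfsg.Agent.H740.Cyc

open Polynomial Matrix

theorem isRoot_pow {K : Type*} [Field K] {p : ℕ} [Fact p.Prime] [CharP K p] {f : K[X]}
    (hf : ∀ i, f.coeff i ^ p = f.coeff i) {μ : K} (h : f.IsRoot μ) : f.IsRoot (μ ^ p) := by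
  have hexp : ExpChar K p := ExpChar.prime Fact.out
  have h1 : f.map (frobenius K p) = f := by
    ext i
    rw [coeff_map, frobenius_def, hf]
  have h2 : eval (frobenius K p μ) (f.map (frobenius K p)) = frobenius K p (eval μ f) :=
    eval_map_apply ..
  rw [h1, frobenius_def, h.eq_zero, map_zero] at h2
  exact h2

theorem eq_one_of_seven {F : Type*} [Field F] [CharP F 3] {n : Type*} [Fintype n] [DecidableEq n]
    (hn : Fintype.card n = 4) {M : Matrix n n F} (h7 : M ^ 7 = 1) (hc : ∀ i, M.charpoly.coeff i ^ 3 = M.charpoly.coeff i) :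
    M = 1 := by
  classical
  have hp : Fact (Nat.Prime 3) := ⟨Nat.prime_three⟩
  let K := AlgebraicClosure F
  have hchar : CharP K 3 := charP_of_injective_algebraMap (algebraMap F K).injective 3
  set f : K[X] := M.charpoly.map (algebraMap F K) with hf
  have hdeg : f.natDegree = 4 := by
    rw [hf, natDegree_map, Matrix.charpoly_natDegree_eq_dim, hn]
  have hmon : f.Monic := M.charpoly_monic.map _
  have hf0 : f ≠ 0 := hmon.ne_zero
  have hcK : ∀ i, f.coeff i ^ 3 = f.coeff i := by
    intro i
    rw [hf, coeff_map, ← map_pow, hc]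
  set MK : Matrix n n K := M.map (algebraMap F K) with hMK
  have hMK7 : MK ^ 7 = 1 := by
    have h1 : MK = (algebraMap F K).mapMatrix M := rfl
    rw [h1, ← map_pow, h7, map_one]
  have hfM : MK.charpoly = f := Matrix.charpoly_map M _
  -- roots are seventh roots of unity
  have hroot : ∀ μ, f.IsRoot μ → μ ^ 7 = 1 := by
    intro μ hμ
    have h1 : Module.End.HasEigenvalue (Matrix.toLin' MK) μ := by
      rw [Module.End.hasEigenvalue_iff_isRoot_charpoly, Matrix.charpoly_toLin', hfM]
      exact hμ
    obtain ⟨v, hv⟩ := h1.exists_hasEigenvector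
    have h2 : ∀ k : ℕ, (MK ^ k) *ᵥ v = μ ^ k • v := by
      intro k
      induction k with
      | zero => rw [pow_zero, pow_zero, one_mulVec, one_smul]
      | succ k ih =>
        have h3 : MK *ᵥ v = μ • v := by
          have := hv.apply_eq_smul
          rwa [Matrix.toLin'_apply] at this
        rw [pow_succ, ← mulVec_mulVec, h3, mulVec_smul, ih, smul_smul, pow_succ, mul_comm]
    have h4 := h2 7
    rw [hMK7, one_mulVec] at h4
    have h5 : (μ ^ 7 - 1) • v = 0 := by rw [sub_smul, one_smul, ← h4, sub_self]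
    rcases smul_eq_zero.1 h5 with h6 | h6
    · exact sub_eq_zero.1 h6
    · exact absurd h6 hv.2
  -- all roots are 1
  have hone : ∀ μ, f.IsRoot μ → μ = 1 := by
    intro μ hμ
    by_contra hne
    have h7' := hroot μ hμ
    have ho : orderOf μ = 7 := by
      have h1 : orderOf μ ∣ 7 := orderOf_dvd_of_pow_eq_one h7'
      rcases (Nat.dvd_prime (by norm_num : Nat.Prime 7)).1 h1 with h | h
      · exact absurd (orderOf_eq_one_iff.1 h) hne
      · exact h
    have r1 := hμ
    have r3 : f.IsRoot (μ ^ 3) := isRoot_pow hcK r1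
    have r2 : f.IsRoot (μ ^ 2) := by
      have := isRoot_pow hcK r3
      rwa [← pow_mul, show 3 * 3 = 7 + 2 from rfl, pow_add, h7', one_mul] at this
    have r6 : f.IsRoot (μ ^ 6) := by
      have := isRoot_pow hcK r2
      rwa [← pow_mul] at this
    have r4 : f.IsRoot (μ ^ 4) := by
      have := isRoot_pow hcK r6
      rwa [← pow_mul, show 6 * 3 = 7 * 2 + 4 from rfl, pow_add, pow_mul, h7', one_pow, one_mul] at this
    have hinj : ∀ i j : ℕ, i < 7 → j < 7 → μ ^ i = μ ^ j → i = j := by
      intro i j hi hj hij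
      exact pow_injOn_Iio_orderOf (by rw [ho]; exact hi) (by rw [ho]; exact hj) hij
    have hsub : ({1, 2, 3, 4, 6} : Finset ℕ).image (fun i => μ ^ i) ⊆ f.roots.toFinset := by
      intro x hx
      rw [Finset.mem_image] at hx
      obtain ⟨i, hi, rfl⟩ := hx
      rw [Multiset.mem_toFinset, mem_roots hf0]
      simp only [Finset.mem_insert, Finset.mem_singleton] at hi
      rcases hi with rfl | rfl | rfl | rfl | rfl
      · rwa [pow_one]
      · exact r2
      · exact r3
      · exact r4
      · exact r6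
    have h8 := Finset.card_le_card hsub
    rw [Finset.card_image_of_injOn] at h8
    · have h9 : f.roots.toFinset.card ≤ 4 := (Multiset.toFinset_card_le _).trans ((card_roots' f).trans hdeg.le)
      have h10 : ({1, 2, 3, 4, 6} : Finset ℕ).card = 5 := by decide
      omega
    · intro i hi j hj hij
      have hlt : ∀ i ∈ ({1, 2, 3, 4, 6} : Finset ℕ), i < 7 := by decide
      exact hinj i j (hlt i hi) (hlt j hj) hij
  -- `f = (X - 1)^4`
  have hsp : f.Splits := IsAlgClosed.splits f
  have hfX : f = (X - C 1) ^ 4 := by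
    have h1 := hsp.eq_prod_roots_of_monic hmon
    have h2 : f.roots = Multiset.replicate 4 1 := by
      rw [Multiset.eq_replicate]
      refine ⟨?_, fun b hb => hone b ((mem_roots hf0).1 hb)⟩
      rw [← hsp.natDegree_eq_card_roots, hdeg]
    rw [h1, h2]
    simp
    ring
  have h4 : (MK - 1) ^ 4 = 0 := by
    have h1 := MK.aeval_self_charpoly
    rw [hfM, hfX, map_pow, map_sub, aeval_X, map_one, map_one] at h1
    exact h1
  have h9 : MK ^ 9 = 1 := by
    have h1 : (MK - 1) ^ 9 = 0 := by
      rw [show 9 = 4 + 5 from rfl, pow_add, h4, zero_mul]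
    have hcM : CharP (Matrix n n K) 3 := by
      have : Nonempty n := Fintype.card_pos_iff.1 (by omega)
      exact Matrix.charP 3
    have hexpM : ExpChar (Matrix n n K) 3 := ExpChar.prime Nat.prime_three
    have h2 : (MK - 1) ^ 3 ^ 2 = MK ^ 3 ^ 2 - 1 ^ 3 ^ 2 := sub_pow_expChar_pow_of_commute 3 2 (Commute.one_right MK)
    rw [show (3 ^ 2 : ℕ) = 9 from rfl, h1, one_pow] at h2
    exact (sub_eq_zero.1 h2.symm)
  have hM1 : MK = 1 := by
    have h1 : MK ^ 9 = MK ^ 7 * MK ^ 2 := by rw [← pow_add]
    rw [h9, hMK7, one_mul] at h1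
    have h2 : MK ^ 7 = (MK ^ 2) ^ 3 * MK := by rw [← pow_mul, ← pow_succ]
    rw [hMK7, ← h1, one_pow, one_mul] at h2
    exact h2.symm
  ext i j
  have h1 := congrFun (congrFun hM1 i) j
  rw [hMK, Matrix.map_apply] at h1
  rcases eq_or_ne i j with rfl | hij
  · rw [Matrix.one_apply_eq] at h1 ⊢
    exact (algebraMap F K).injective (by rw [h1, map_one])
  · rw [Matrix.one_apply_ne hij] at h1 ⊢
    exact (algebraMap F K).injective (by rw [h1, map_zero])

end Cfsg.Agent.H740.Cyc
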