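import Cfsg.Agent.H740.Cyc.Semi
import Cfsg.Agent.ClassicalGeometry.PSUAutMain
import Cfsg.Agent.ClassicalGeometry.PSUAutCount

/-!
# S3507 (TWOCYC): automorphisms of `PSU_n(q)` (helper740)

* `exists_comp` : `toAut A ρ * toAut B σ = toAut C (ρ σ)`;
* `fld hF hn h32 : MulAut (PSU n F q) →* (F ≃+* F)`, the field part; `fld_toAut`;
* `exists_of_fld_eq_one` : automorphisms with trivial field part are `toAut B 1`;
* `scal_of_commute` : if `toAut A ρ` and `toAut B 1` commute then `A ρ(B) = c B A` with `c ^ (q + 1) = 1`;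
* `orderOf_toAut_dvd` : the order of `toAut B 1` divides the order of `B` in `PGU`.
-/

set_option autoImplicit false

namespace Cfsg.Agent.H740.Cyc

open Cfsg Cfsg.Agent.LieClassical.HermBasic Cfsg.Agent.LieClassical.HermSiegel
  Cfsg.Agent.LieClassical.HermGen Cfsg.Agent.LieClassical.SUBasic
  Cfsg.Agent.ClassicalGeometry.UnitAutBasic Cfsg.Agent.LieClassical.FieldTransfer
  Cfsg.Agent.ClassicalGeometry.PSUAutCount Matrix

variable {F : Type*} [Field F] [Fintype F] {q n : ℕ}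

omit [Fintype F] in
theorem toAut_eq_of_semiConj {A B : Cfsg.GU n F q} {ρ σ : F ≃+* F}
    (h : ∀ g, semiConj A ρ g = semiConj B σ g) : toAut A ρ = toAut B σ := by
  ext x
  obtain ⟨g, rfl⟩ := pr_surjective x
  rw [toAut_pr, toAut_pr, h]

omit [Fintype F] in
theorem gm_pow (A : Cfsg.GU n F q) (k : ℕ) : gm (A ^ k) = gm A ^ k := by
  induction k with
  | zero => rw [pow_zero, pow_zero, gm_one]
  | succ k ih => rw [pow_succ, gm_mul, ih, pow_succ]

omit [Fintype F] in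
theorem isUnit_gm (A : Cfsg.GU n F q) : IsUnit (gm A) := (A : GL (Fin n) F).isUnit

omit [Fintype F] in
theorem map_mulVec' (ρ : F ≃+* F) (M : Matrix (Fin n) (Fin n) F) (x : Fin n → F) :
    M.map ρ *ᵥ (fun i => ρ (x i)) = fun i => ρ ((M *ᵥ x) i) := by
  funext i
  simp only [Matrix.mulVec, dotProduct, Matrix.map_apply, map_sum, map_mul]

theorem exists_gu_map (hF : Fintype.card F = q ^ 2) (B : Cfsg.GU n F q) (ρ : F ≃+* F) :
    ∃ C : Cfsg.GU n F q, gm C = (gm B).map ρ := by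
  have h : ∀ u v : Fin n → F, hermForm n F q ((gm B).map ρ *ᵥ u) ((gm B).map ρ *ᵥ v) = hermForm n F q u v := by
    intro u v
    have hu : u = fun i => ρ ((fun j => ρ.symm (u j)) i) := by funext i; simp
    have hv : v = fun i => ρ ((fun j => ρ.symm (v j)) i) := by funext i; simp
    rw [hu, hv, map_mulVec', map_mulVec', herm_map, herm_gm, ← herm_map]
  exact ⟨LieClassical.GUOrder.mkGU hF _ h, LieClassical.GUOrder.coe_mkGU hF _ h⟩

theorem exists_comp (hF : Fintype.card F = q ^ 2) (A B : Cfsg.GU n F q) (ρ σ : F ≃+* F) :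
    ∃ C : Cfsg.GU n F q, gm C = gm A * (gm B).map ρ ∧ toAut C (ρ * σ) = toAut A ρ * toAut B σ := by
  obtain ⟨B', hB'⟩ := exists_gu_map hF B ρ
  have hC : gm (A * B') = gm A * (gm B).map ρ := by rw [gm_mul, hB']
  refine ⟨A * B', hC, ?_⟩
  ext x
  obtain ⟨g, rfl⟩ := pr_surjective x
  rw [MulAut.mul_apply, toAut_pr, toAut_pr, toAut_pr]
  congr 1
  apply ext_act
  intro y
  have hy : y = gm (A * B') *ᵥ fun i => (ρ * σ) ((fun j => (ρ * σ).symm ((gm (A * B')⁻¹ *ᵥ y) j)) i) := by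
    have : (fun i => (ρ * σ) ((fun j => (ρ * σ).symm ((gm (A * B')⁻¹ *ᵥ y) j)) i)) = gm (A * B')⁻¹ *ᵥ y := by
      funext i
      simp
    rw [this, gm_mulVec_inv]
  rw [hy]
  generalize (fun j => (ρ * σ).symm ((gm (A * B')⁻¹ *ᵥ y) j)) = x
  rw [act_semiConj]
  have e : ∀ w : Fin n → F, gm (A * B') *ᵥ (fun i => (ρ * σ) (w i)) =
      gm A *ᵥ fun i => ρ ((gm B *ᵥ fun j => σ (w j)) i) := by
    intro w
    rw [hC, ← mulVec_mulVec]
    congr 1
    exact map_mulVec' ρ (gm B) (fun j => σ (w j))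
  rw [e, e, act_semiConj, act_semiConj]

/-- the field part of an automorphism of `PSU_n(q)` -/
noncomputable def fldFun (hF : Fintype.card F = q ^ 2) (hn : 3 ≤ n) (h32 : ¬ (n = 3 ∧ q = 2))
    (α : MulAut (PSU n F q)) : F ≃+* F :=
  (ClassicalGeometry.PSUAutMain.exists_toAut hF hn h32 α).choose_spec.choose

theorem fldFun_spec (hF : Fintype.card F = q ^ 2) (hn : 3 ≤ n) (h32 : ¬ (n = 3 ∧ q = 2))
    (α : MulAut (PSU n F q)) : ∃ A : Cfsg.GU n F q, α = toAut A (fldFun hF hn h32 α) :=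
  ⟨_, (ClassicalGeometry.PSUAutMain.exists_toAut hF hn h32 α).choose_spec.choose_spec⟩

theorem fldFun_toAut (hF : Fintype.card F = q ^ 2) (hn : 3 ≤ n) (h32 : ¬ (n = 3 ∧ q = 2))
    (A : Cfsg.GU n F q) (ρ : F ≃+* F) : fldFun hF hn h32 (toAut A ρ) = ρ := by
  obtain ⟨B, hB⟩ := fldFun_spec hF hn h32 (toAut A ρ)
  exact (eq_of_toAut_eq hF hn hB).1

/-- **The field part.** -/
noncomputable def fld (hF : Fintype.card F = q ^ 2) (hn : 3 ≤ n) (h32 : ¬ (n = 3 ∧ q = 2)) :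
    MulAut (PSU n F q) →* (F ≃+* F) :=
  MonoidHom.mk' (fldFun hF hn h32) (by
    intro α β
    obtain ⟨A, hA⟩ := fldFun_spec hF hn h32 α
    obtain ⟨B, hB⟩ := fldFun_spec hF hn h32 β
    obtain ⟨C, -, hC⟩ := exists_comp hF A B (fldFun hF hn h32 α) (fldFun hF hn h32 β)
    rw [← hA, ← hB] at hC
    rw [← hC, fldFun_toAut])

theorem fld_toAut (hF : Fintype.card F = q ^ 2) (hn : 3 ≤ n) (h32 : ¬ (n = 3 ∧ q = 2))
    (A : Cfsg.GU n F q) (ρ : F ≃+* F) : fld hF hn h32 (toAut A ρ) = ρ := fldFun_toAut hF hn h32 A ρ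

theorem exists_of_fld (hF : Fintype.card F = q ^ 2) (hn : 3 ≤ n) (h32 : ¬ (n = 3 ∧ q = 2))
    (α : MulAut (PSU n F q)) : ∃ A : Cfsg.GU n F q, α = toAut A (fld hF hn h32 α) := fldFun_spec hF hn h32 α

theorem exists_of_fld_eq_one (hF : Fintype.card F = q ^ 2) (hn : 3 ≤ n) (h32 : ¬ (n = 3 ∧ q = 2))
    {α : MulAut (PSU n F q)} (h : fld hF hn h32 α = 1) : ∃ A : Cfsg.GU n F q, α = toAut A 1 := by
  rw [← h]
  exact exists_of_fld hF hn h32 α

/-- commuting automorphisms -/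
theorem scal_of_commute (hF : Fintype.card F = q ^ 2) (hn : 3 ≤ n) {A B : Cfsg.GU n F q} {ρ : F ≃+* F}
    (h : toAut A ρ * toAut B 1 = toAut B 1 * toAut A ρ) :
    ∃ c : F, c ^ (q + 1) = 1 ∧ gm A * (gm B).map ρ = c • (gm B * gm A) := by
  obtain ⟨C, hC1, hC2⟩ := exists_comp hF A B ρ 1
  obtain ⟨D, hD1, hD2⟩ := exists_comp hF B A 1 ρ
  rw [mul_one] at hC2
  rw [one_mul] at hD2
  rw [h, ← hD2] at hC2
  obtain ⟨-, c, hc, hcD⟩ := eq_of_toAut_eq hF hn hC2.symm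
  refine ⟨c, by rw [pow_succ', hc], ?_⟩
  rw [← hC1, hcD, hD1]
  congr 1

theorem toAut_mul_one (hF : Fintype.card F = q ^ 2) (A B : Cfsg.GU n F q) :
    toAut (A * B) 1 = toAut A 1 * toAut B 1 := by
  obtain ⟨C, hC1, hC2⟩ := exists_comp hF A B 1 1
  rw [one_mul] at hC2
  rw [← hC2]
  congr 1
  apply gm_inj
  rw [gm_mul, hC1]
  rfl

omit [Fintype F] in
theorem toAut_one_one : toAut (1 : Cfsg.GU n F q) 1 = 1 := by
  ext x
  obtain ⟨g, rfl⟩ := pr_surjective x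
  rw [toAut_pr, MulAut.one_apply]
  congr 1
  apply ext_act
  intro y
  have h := act_semiConj (1 : Cfsg.GU n F q) (1 : F ≃+* F) g y
  rw [gm_one, one_mulVec, one_mulVec] at h
  exact h

theorem toAut_pow_one (hF : Fintype.card F = q ^ 2) (A : Cfsg.GU n F q) (k : ℕ) :
    toAut (A ^ k) 1 = toAut A 1 ^ k := by
  induction k with
  | zero => rw [pow_zero, pow_zero, toAut_one_one]
  | succ k ih => rw [pow_succ, toAut_mul_one hF, ih, pow_succ]

/-- a norm one scalar induces the identity -/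
theorem toAut_eq_one_of_scalar (hF : Fintype.card F = q ^ 2) {A : Cfsg.GU n F q} {c : F} (hc : c ^ (q + 1) = 1)
    (h : gm A = c • (1 : Matrix (Fin n) (Fin n) F)) : toAut A 1 = 1 := by
  have h1 : A = sc n ⟨c, by rw [← pow_succ', hc]⟩ * 1 := by
    apply gm_inj
    rw [gm_sc_mul, gm_one, h]
  rw [h1, toAut_sc_mul, toAut_one_one]

theorem toAut_eq_one_of_center (hF : Fintype.card F = q ^ 2) (hn : 3 ≤ n) {A : Cfsg.GU n F q}
    (h : A ∈ Subgroup.center (Cfsg.GU n F q)) : toAut A 1 = 1 := by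
  obtain ⟨c, hc, hA⟩ := (ClassicalGeometry.GUBasic.mem_center_GU_iff hF (by omega) A).1 h
  refine toAut_eq_one_of_scalar hF hc ?_
  rw [hA]
  show Matrix.diagonal (fun _ => c) = _
  ext i j
  rcases eq_or_ne i j with rfl | hij
  · simp
  · simp [Matrix.diagonal_apply_ne _ hij, Matrix.one_apply_ne hij]

/-- the order of `toAut B 1` divides the order of `B` modulo the centre -/
theorem orderOf_toAut_dvd (hF : Fintype.card F = q ^ 2) (hn : 3 ≤ n) (B : Cfsg.GU n F q) :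
    orderOf (toAut B 1) ∣ orderOf (QuotientGroup.mk B : ↥(Cfsg.GU n F q) ⧸ Subgroup.center ↥(Cfsg.GU n F q)) := by
  apply orderOf_dvd_of_pow_eq_one
  rw [← toAut_pow_one hF]
  apply toAut_eq_one_of_center hF hn
  have h1 := pow_orderOf_eq_one (QuotientGroup.mk B : ↥(Cfsg.GU n F q) ⧸ Subgroup.center ↥(Cfsg.GU n F q))
  rw [← QuotientGroup.mk_pow] at h1
  exact (QuotientGroup.eq_one_iff _).1 h1

theorem orderOf_toAut_le (hF : Fintype.card F = q ^ 2) (hn : 3 ≤ n) {N : ℕ}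
    (hN : ∀ g : (↥(Cfsg.GU n F q) ⧸ Subgroup.center ↥(Cfsg.GU n F q)), orderOf g ≤ N) (B : Cfsg.GU n F q) :
    orderOf (toAut B 1) ≤ N := by
  have : Finite ↥(Cfsg.GU n F q) := LieClassical.GUOrder.finite_GU n
  exact (Nat.le_of_dvd (orderOf_pos _) (orderOf_toAut_dvd hF hn B)).trans (hN _)

end Cfsg.Agent.H740.Cyc
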