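import Mathlib
import Cfsg.Agent.Lib.FieldAutCard

/-!
# S3507 (TWOCYC): matrices commuting with a semilinear map (helper740)

* `charpoly_fixed`: if `A * ρ(M) = M * A` with `A` invertible then the characteristic polynomial of `M` is fixed by `ρ`;
* `fixed_of_orderOf`: a field automorphism of maximal order fixes only the prime field;
* `pow_four`: a `4 × 4`-matrix of determinant 1 whose characteristic polynomial has coefficients in `{0, 1}`,
  characteristic 2, satisfies `M ^ k = 1` for some `1 ≤ k ≤ 15`; `pow_four_recip`: `k ≤ 6` if `M⁻¹` has the same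
  characteristic polynomial.
-/

set_option autoImplicit false

namespace Cfsg.Agent.H740.Cyc

open Polynomial Matrix

/-- the characteristic polynomial of a matrix commuting with a semilinear bijection -/
theorem charpoly_fixed {F : Type*} [Field F] {n : Type*} [Fintype n] [DecidableEq n] (ρ : F ≃+* F)
    {M A : Matrix n n F} (hA : IsUnit A) (h : A * M.map ρ = M * A) :
    M.charpoly.map (ρ : F →+* F) = M.charpoly := by
  obtain ⟨u, rfl⟩ := hA
  have h3 : M.map (ρ : F →+* F) = u⁻¹.val * M * u.val := by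
    have e : M.map (ρ : F →+* F) = M.map ρ := rfl
    rw [e, mul_assoc, ← h, ← mul_assoc, Units.inv_mul, one_mul]
  rw [← Matrix.charpoly_map M (ρ : F →+* F), h3, Matrix.charpoly_mul_comm, ← mul_assoc, Units.mul_inv, one_mul]

/-- the coefficients of the characteristic polynomial are fixed -/
theorem coeff_fixed {F : Type*} [Field F] {n : Type*} [Fintype n] [DecidableEq n] (ρ : F ≃+* F)
    {M A : Matrix n n F} (hA : IsUnit A) (h : A * M.map ρ = M * A) (i : ℕ) :
    ρ (M.charpoly.coeff i) = M.charpoly.coeff i := by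
  have h1 := charpoly_fixed ρ hA h
  have h2 := congrArg (fun f => f.coeff i) h1
  rwa [coeff_map] at h2

/-- a field automorphism of maximal order fixes only the prime field -/
theorem fixed_of_orderOf {F : Type*} [Field F] [Fintype F] {p f : ℕ} [hp : Fact p.Prime] (hf : 1 ≤ f)
    (hF : Fintype.card F = p ^ f) (ρ : F ≃+* F) (hρ : orderOf ρ = f) {x : F} (hx : ρ x = x) : x ^ p = x := by
  have hchar : CharP F p := by
    obtain ⟨q, hq⟩ := CharP.exists F
    obtain ⟨n, hqp, hn⟩ := FiniteField.card F q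
    have : q ∣ p ^ f := by
      rw [← hF, hn]
      exact dvd_pow_self q n.pos.ne'
    have hqp' : q = p := (Nat.prime_dvd_prime_iff_eq hqp hp.out).1 (hqp.dvd_of_dvd_pow this)
    rwa [← hqp']
  have hc := Cfsg.Agent.Lib.FieldAutCard.card_ringAut hf hF
  have hfin : Finite (F ≃+* F) := Nat.finite_of_card_ne_zero (by rw [hc]; omega)
  have htop : Subgroup.zpowers ρ = ⊤ := by
    apply Subgroup.eq_top_of_card_eq
    rw [Nat.card_zpowers, hρ, hc]
  have hexp : ExpChar F p := ExpChar.prime hp.out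
  let φ : F ≃+* F := frobeniusEquiv F p
  have h1 : φ ∈ Subgroup.zpowers ρ := by rw [htop]; trivial
  obtain ⟨k, hk⟩ := Subgroup.mem_zpowers_iff.1 h1
  have h2 : ∀ k : ℤ, (ρ ^ k) x = x := by
    intro k
    have h3 : ρ ∈ MulAction.stabilizer (F ≃+* F) x := hx
    exact (Subgroup.zpow_mem _ h3 k : ρ ^ k ∈ MulAction.stabilizer (F ≃+* F) x)
  have h3 : φ x = x := by rw [← hk]; exact h2 k
  exact h3

/-- characteristic two: `0` or `1` -/
theorem zero_or_one {F : Type*} [Field F] {x : F} (h : x ^ 2 = x) : x = 0 ∨ x = 1 := by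
  have h1 : x * (x - 1) = 0 := by linear_combination h
  rcases mul_eq_zero.1 h1 with h | h
  · exact Or.inl h
  · exact Or.inr (sub_eq_zero.1 h)

section four

variable {F : Type*} [Field F] {n : Type*} [Fintype n] [DecidableEq n]

theorem charpoly_four (hn : Fintype.card n = 4) (M : Matrix n n F) :
    M.charpoly = X ^ 4 + C (M.charpoly.coeff 3) * X ^ 3 + C (M.charpoly.coeff 2) * X ^ 2 +
      C (M.charpoly.coeff 1) * X + C M.det := by
  have h1 : M.charpoly.natDegree = 4 := by rw [Matrix.charpoly_natDegree_eq_dim, hn]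
  have h2 : M.charpoly.coeff 4 = 1 := by
    have := M.charpoly_monic
    rw [Monic, leadingCoeff, h1] at this
    exact this
  have h3 : M.det = M.charpoly.coeff 0 := by
    rw [Matrix.det_eq_sign_charpoly_coeff, hn]
    norm_num
  conv_lhs => rw [M.charpoly.as_sum_range_C_mul_X_pow, h1]
  rw [Finset.sum_range_succ, Finset.sum_range_succ, Finset.sum_range_succ, Finset.sum_range_succ,
    Finset.sum_range_succ, Finset.sum_range_zero, h2, h3]
  simp only [map_one, pow_zero, mul_one, pow_one, one_mul]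
  ring

theorem pow_of_aeval {M : Matrix n n F} {P Q R : F[X]} {k : ℕ} (h2 : (2 : F[X]) = 0) (hP : aeval M P = 0)
    (h : X ^ k + 1 = P * Q - 2 * R) : M ^ k = 1 := by
  have h1 := congrArg (aeval M) h
  rw [h2, zero_mul, sub_zero, map_add, map_pow, aeval_X, map_one, map_mul, hP, zero_mul] at h1
  have h3 : (1 : Matrix n n F) + 1 = 0 := by
    have h4 := congrArg (aeval M) h2
    rw [map_zero, map_ofNat] at h4
    rw [one_add_one_eq_two]
    exact h4
  calc M ^ k = (M ^ k + 1) - (1 + 1) + 1 := by abel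
    _ = 1 := by rw [h1, h3]; simp

theorem pow_four (hn : Fintype.card n = 4) (h2 : (2 : F) = 0) {M : Matrix n n F} (hdet : M.det = 1)
    (hc : ∀ i, M.charpoly.coeff i = 0 ∨ M.charpoly.coeff i = 1) : ∃ k, 1 ≤ k ∧ k ≤ 15 ∧ M ^ k = 1 := by
  have h2' : (2 : F[X]) = 0 := by
    rw [← map_ofNat (C : F →+* F[X]) 2, h2, map_zero]
  have hch := charpoly_four hn M
  have hae := M.aeval_self_charpoly
  rw [hdet, map_one] at hch
  rcases hc 3 with ha | ha <;> rcases hc 2 with hb | hb <;> rcases hc 1 with hc' | hc' <;>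
    rw [ha, hb, hc'] at hch <;> simp only [map_zero, map_one, zero_mul, one_mul, add_zero] at hch <;>
    rw [hch] at hae
  · exact ⟨4, by norm_num, by norm_num, pow_of_aeval h2' hae (Q := 1) (R := 0) (by ring)⟩
  · exact ⟨15, by norm_num, by norm_num, pow_of_aeval h2' hae
      (Q := X ^ 11 + X ^ 8 + X ^ 7 + X ^ 5 + X ^ 3 + X ^ 2 + X + 1)
      (R := X ^ 12 + X ^ 11 + X ^ 9 + X ^ 8 + X ^ 7 + X ^ 6 + X ^ 5 + X ^ 4 + X ^ 3 + X ^ 2 + X) (by ring)⟩
  · exact ⟨6, by norm_num, by norm_num, pow_of_aeval h2' hae (Q := X ^ 2 + 1) (R := X ^ 4 + X ^ 2) (by ring)⟩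
  · exact ⟨7, by norm_num, by norm_num, pow_of_aeval h2' hae (Q := X ^ 3 + X + 1)
      (R := X ^ 5 + X ^ 4 + X ^ 3 + X ^ 2 + X) (by ring)⟩
  · exact ⟨15, by norm_num, by norm_num, pow_of_aeval h2' hae
      (Q := X ^ 11 + X ^ 10 + X ^ 9 + X ^ 8 + X ^ 6 + X ^ 4 + X ^ 3 + 1)
      (R := X ^ 14 + X ^ 13 + X ^ 12 + X ^ 11 + X ^ 10 + X ^ 9 + X ^ 8 + X ^ 7 + X ^ 6 + X ^ 4 + X ^ 3) (by ring)⟩
  · exact ⟨6, by norm_num, by norm_num, pow_of_aeval h2' hae (Q := X ^ 2 + X + 1)
      (R := X ^ 5 + X ^ 4 + X ^ 3 + X ^ 2 + X) (by ring)⟩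
  · exact ⟨7, by norm_num, by norm_num, pow_of_aeval h2' hae (Q := X ^ 3 + X ^ 2 + 1)
      (R := X ^ 6 + X ^ 5 + X ^ 4 + X ^ 3 + X ^ 2) (by ring)⟩
  · exact ⟨5, by norm_num, by norm_num, pow_of_aeval h2' hae (Q := X + 1)
      (R := X ^ 4 + X ^ 3 + X ^ 2 + X) (by ring)⟩

/-- the characteristic polynomial is palindromic if `M⁻¹` has the same one -/
theorem coeff_recip (hn : Fintype.card n = 4) {M : Matrix n n F} (hdet : M.det = 1)
    (hr : M⁻¹.charpoly = M.charpoly) : M.charpoly.coeff 1 = M.charpoly.coeff 3 := by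
  have hu : IsUnit M := (Matrix.isUnit_iff_isUnit_det M).2 (by rw [hdet]; exact isUnit_one)
  have h1 := Matrix.charpoly_inv M hu
  rw [hr, hn, hdet] at h1
  have h2 : M.charpoly = M.charpoly.reverse := by
    rw [Matrix.reverse_charpoly]
    rw [Ring.inverse_one, map_one, mul_one] at h1
    rw [h1]
    norm_num
  have h3 : M.charpoly.natDegree = 4 := by rw [Matrix.charpoly_natDegree_eq_dim, hn]
  conv_lhs => rw [h2, coeff_reverse, h3]
  rfl

theorem pow_four_recip (hn : Fintype.card n = 4) (h2 : (2 : F) = 0) {M : Matrix n n F} (hdet : M.det = 1)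
    (hc : ∀ i, M.charpoly.coeff i = 0 ∨ M.charpoly.coeff i = 1) (hr : M⁻¹.charpoly = M.charpoly) :
    ∃ k, 1 ≤ k ∧ k ≤ 6 ∧ M ^ k = 1 := by
  have h2' : (2 : F[X]) = 0 := by
    rw [← map_ofNat (C : F →+* F[X]) 2, h2, map_zero]
  have hch := charpoly_four hn M
  have hae := M.aeval_self_charpoly
  rw [hdet, map_one, coeff_recip hn hdet hr] at hch
  rcases hc 3 with ha | ha <;> rcases hc 2 with hb | hb <;>
    rw [ha, hb] at hch <;> simp only [map_zero, map_one, zero_mul, one_mul, add_zero] at hch <;>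
    rw [hch] at hae
  · exact ⟨4, by norm_num, by norm_num, pow_of_aeval h2' hae (Q := 1) (R := 0) (by ring)⟩
  · exact ⟨6, by norm_num, by norm_num, pow_of_aeval h2' hae (Q := X ^ 2 + 1) (R := X ^ 4 + X ^ 2) (by ring)⟩
  · exact ⟨6, by norm_num, by norm_num, pow_of_aeval h2' hae (Q := X ^ 2 + X + 1)
      (R := X ^ 5 + X ^ 4 + X ^ 3 + X ^ 2 + X) (by ring)⟩
  · exact ⟨5, by norm_num, by norm_num, pow_of_aeval h2' hae (Q := X + 1)
      (R := X ^ 4 + X ^ 3 + X ^ 2 + X) (by ring)⟩

end four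

end Cfsg.Agent.H740.Cyc
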